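import Cfsg.Agent.H257.El.TopC

/-!
# The index of the simple group at the top, for an isolated prime (helper257)

`E n r = (n / r) % r` : for a group of order `n` in which `r ∥ n` is adjacent to no prime, `|N(⟨x⟩)| = r E`.

* `index_mul_eq`, `index_eq` : `E |R/O| = E |N| * [R/O : N]` (`E |R/O| = [R/O : N]` if `|N| = r`)
* `E_dvd` : `E |R| ∣ E |T|` for `R ≤ T`; `E_quot` : `E |R| = E |R/O|`
* `Top.index_dvd_E` : `E |N| * [R/O : N] ∣ E |T|`
-/

set_option autoImplicit false

namespace Cfsg.Agent.H257.Cov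

open Subgroup
open Cfsg.Agent.H257.El

/-- the residue of `n / r` modulo `r` -/
def E (n r : ℕ) : ℕ := (n / r) % r

/-- `r` is adjacent to no prime -/
def Isol (T : Type*) [Group T] (r : ℕ) : Prop := ∀ p : ℕ, p.Prime → r ≠ p → ∀ z : T, orderOf z ≠ r * p

section

variable {R : Type*} [Group R] [Finite R] {r : ℕ} {O : Subgroup R} [O.Normal] {N : Subgroup (R ⧸ O)}

theorem index_mul_eq (h : Top R r O N) (hno : Isol R r) (hne : Nat.card N ≠ r) :
    E (Nat.card N) r * N.index = E (Nat.card (R ⧸ O)) r := by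
  have hN := h.normal
  have hr' : Fact r.Prime := ⟨h.prime⟩
  have hnoQ : ∀ p : ℕ, p.Prime → r ≠ p → ∀ z : R ⧸ O, orderOf z ≠ r * p :=
    fun p hp hrp => Top.noQuot O (hno p hp hrp)
  have hnoN : ∀ p : ℕ, p.Prime → r ≠ p → ∀ z : N, orderOf z ≠ r * p := fun p hp hrp z => by
    rw [← Subgroup.orderOf_coe]
    exact hnoQ p hp hrp z
  have hN2 : ¬ r ^ 2 ∣ Nat.card N := fun h2 => h.sq' (h2.trans (Subgroup.card_subgroup_dvd_card N))
  obtain ⟨y, hy⟩ := exists_prime_orderOf_dvd_card' (G := N) r h.dvd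
  have hy' : orderOf (y : R ⧸ O) = r := by rw [Subgroup.orderOf_coe, hy]
  obtain ⟨h1, -⟩ := card_norm_mod h.prime hN2 hne (card_cent_of_noOrd h.prime hN2 hnoN hy)
  have hneQ : Nat.card (R ⧸ O) ≠ r := by
    intro h3
    have h4 := Subgroup.card_subgroup_dvd_card N
    rw [h3] at h4
    rcases (Nat.dvd_prime h.prime).1 h4 with h5 | h5
    · have h6 := h.dvd
      rw [h5] at h6
      exact h.prime.one_lt.ne' (Nat.dvd_one.1 h6)
    · exact hne h5
  obtain ⟨h3, h4⟩ := card_norm_mod h.prime h.sq' hneQ (card_cent_of_noOrd h.prime h.sq' hnoQ hy')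
  -- the Frattini argument
  have hPy : IsPGroup r (zpowers y) :=
    IsPGroup.of_card (n := 1) (by rw [Nat.card_zpowers, hy, pow_one])
  obtain ⟨P, hP⟩ := hPy.exists_le_sylow
  have hPc : Nat.card P = r := by
    have h5 := Top.card_sylow_of P (a := 1) (by rw [pow_one]; exact h.dvd) hN2
    rwa [pow_one] at h5
  have hPe : zpowers y = P := by
    apply Subgroup.eq_of_le_of_card_ge hP
    rw [hPc, Nat.card_zpowers, hy]
  have hmap : (P : Subgroup N).map N.subtype = zpowers (y : R ⧸ O) := by
    rw [← hPe, MonoidHom.map_zpowers]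
    rfl
  have hfr := Sylow.normalizer_sup_eq_top P
  rw [hmap] at hfr
  set M := normalizer ((zpowers (y : R ⧸ O) : Subgroup (R ⧸ O)) : Set (R ⧸ O)) with hM
  have h5 : N.relIndex (M ⊔ N) = N.relIndex M := Subgroup.relIndex_sup_right _ _
  rw [hfr, Subgroup.relIndex_top_right] at h5
  have h6 := Subgroup.card_mul_index (N.subgroupOf M)
  have h7 : (N.subgroupOf M).index = N.index := h5.symm
  -- `N ∩ M` is the normaliser in `N`
  have hmem : ∀ w : N, w ∈ zpowers y ↔ (w : R ⧸ O) ∈ zpowers (y : R ⧸ O) := by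
    intro w
    rw [mem_zpowers_iff, mem_zpowers_iff]
    constructor
    · rintro ⟨j, hj⟩
      exact ⟨j, congrArg Subtype.val hj⟩
    · rintro ⟨j, hj⟩
      exact ⟨j, Subtype.ext hj⟩
  have hyN : ∀ w ∈ zpowers (y : R ⧸ O), w ∈ N := by
    intro w hw
    obtain ⟨j, rfl⟩ := mem_zpowers_iff.1 hw
    exact zpow_mem y.2 j
  have h8 : normalizer ((zpowers y : Subgroup N) : Set N) = M.subgroupOf N := by
    ext w
    rw [mem_subgroupOf, mem_normalizer_iff, hM, mem_normalizer_iff]
    constructor
    · intro hh v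
      constructor
      · intro hv
        exact (hmem _).1 ((hh ⟨v, hyN v hv⟩).1 ((hmem _).2 hv))
      · intro hv
        have hvN : v ∈ N := by
          have h9 := mul_mem (mul_mem (inv_mem w.2) (hyN _ hv)) w.2
          rwa [show (w : R ⧸ O)⁻¹ * ((w : R ⧸ O) * v * (w : R ⧸ O)⁻¹) * w = v by group] at h9
        exact (hmem _).1 ((hh ⟨v, hvN⟩).2 ((hmem _).2 hv))
    · intro hh v
      rw [hmem, hmem]
      exact hh v
  have h9 : Nat.card (M.subgroupOf N) = Nat.card (N.subgroupOf M) := by
    have e1 : Nat.card (M.subgroupOf N) = Nat.card (N ⊓ M : Subgroup (R ⧸ O)) := by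
      rw [← Subgroup.inf_subgroupOf_left]
      exact Nat.card_congr (Subgroup.subgroupOfEquivOfLe inf_le_left).toEquiv
    have e2 : Nat.card (N.subgroupOf M) = Nat.card (N ⊓ M : Subgroup (R ⧸ O)) := by
      rw [← Subgroup.inf_subgroupOf_right]
      exact Nat.card_congr (Subgroup.subgroupOfEquivOfLe inf_le_right).toEquiv
    rw [e1, e2]
  rw [h7, ← h9, ← h8, h1, h3] at h6
  apply Nat.eq_of_mul_eq_mul_left h.prime.pos
  change r * ((Nat.card N / r) % r * N.index) = r * ((Nat.card (R ⧸ O) / r) % r)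
  rw [← h6]
  ring

theorem index_eq (h : Top R r O N) (hc : ∀ a b : N, a * b = b * a) : N.index = E (Nat.card (R ⧸ O)) r := by
  have h1 := h.index_dvd_of_comm hc
  have h2 := h.card_of_comm hc
  have h3 : 0 < r - 1 := Nat.sub_pos_of_lt h.prime.one_lt
  have h4 := Nat.le_of_dvd h3 h1
  unfold E
  rw [← Subgroup.card_mul_index N, h2, Nat.mul_div_cancel_left _ h.prime.pos]
  have := h.prime.one_lt
  exact (Nat.mod_eq_of_lt (by omega)).symm

/-- an element of order `r` acts on `O` without fixed points -/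
theorem card_core_mod (h : Top R r O N) (hno : Isol R r) : Nat.card O % r = 1 := by
  have hr' : Fact r.Prime := ⟨h.prime⟩
  obtain ⟨x, hx⟩ := exists_prime_orderOf_dvd_card' (G := R) r h.dvdR
  have hp : IsPGroup r (zpowers x) := IsPGroup.of_card (n := 1) (by rw [Nat.card_zpowers, hx, pow_one])
  let _ : MulAction (zpowers x) O := MulAction.compHom O ((MulAut.conjNormal (H := O)).comp (zpowers x).subtype)
  have h1 := hp.card_modEq_card_fixedPoints O
  have h2 : Nat.card (MulAction.fixedPoints (zpowers x) O) = 1 := by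
    rw [Nat.card_eq_one_iff_unique]
    have key : ∀ o : O, o ∈ MulAction.fixedPoints (zpowers x) O → o = 1 := by
      intro o ho
      have h3 := ho ⟨x, mem_zpowers x⟩
      have h4 : x * (o : R) * x⁻¹ = o := congrArg Subtype.val h3
      by_contra hne
      have h5 : orderOf (o : R) ≠ 1 := by
        rw [Ne, orderOf_eq_one_iff]
        exact fun h6 => hne (Subtype.ext h6)
      obtain ⟨p, hp, hpd⟩ := Nat.exists_prime_and_dvd h5
      have hpO : p ∣ Nat.card O := by
        have := orderOf_dvd_natCard o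
        rw [← Subgroup.orderOf_coe] at this
        exact hpd.trans this
      have hrp : r ≠ p := by
        rintro rfl
        exact h.core hpO
      have h6 : orderOf ((o : R) ^ (orderOf (o : R) / p)) = p := by
        rw [orderOf_pow_of_dvd (Nat.div_pos (Nat.le_of_dvd (orderOf_pos _) hpd) hp.pos).ne' (Nat.div_dvd_of_dvd hpd),
          Nat.div_div_self hpd (orderOf_pos _).ne']
      refine hno p hp hrp (x * (o : R) ^ (orderOf (o : R) / p))
        (orderOf_mul_of_comm h.prime hp hrp hx h6 ?_)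
      have h7 : Commute x (o : R) := by
        change x * (o : R) = o * x
        calc x * (o : R) = (x * (o : R) * x⁻¹) * x := by group
          _ = o * x := by rw [h4]
      exact (h7.pow_right _).eq
    refine ⟨⟨fun a b => Subtype.ext ((key a a.2).trans (key b b.2).symm)⟩, ⟨⟨1, fun g => ?_⟩⟩⟩
    exact map_one (((MulAut.conjNormal (H := O)).comp (zpowers x).subtype) g)
  rw [h2] at h1
  have h3 : Nat.card O % r = 1 % r := h1
  rw [h3, Nat.mod_eq_of_lt h.prime.one_lt]

theorem E_quot (h : Top R r O N) (hno : Isol R r) : E (Nat.card R) r = E (Nat.card (R ⧸ O)) r := by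
  have h1 := card_core_mod h hno
  have h2 : r ∣ Nat.card (R ⧸ O) := h.dvd.trans (Subgroup.card_subgroup_dvd_card N)
  unfold E
  rw [← card_quot_mul O]
  obtain ⟨k, hk⟩ := h2
  rw [hk, mul_assoc, Nat.mul_div_cancel_left _ h.prime.pos, Nat.mul_div_cancel_left _ h.prime.pos, Nat.mul_mod, h1,
    mul_one, Nat.mod_mod]

end

theorem Isol.sub {T : Type*} [Group T] {r : ℕ} (h : Isol T r) (R : Subgroup T) : Isol R r := by
  intro p hp hrp z
  rw [← Subgroup.orderOf_coe]
  exact h p hp hrp z

/-- `E |R| ∣ E |T|` -/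
theorem E_dvd {T : Type*} [Group T] [Finite T] {r : ℕ} (hr : r.Prime) (hno : Isol T r) (h2 : ¬ r ^ 2 ∣ Nat.card T)
    (hne : Nat.card T ≠ r) (R : Subgroup T) (hd : r ∣ Nat.card R) : E (Nat.card R) r ∣ E (Nat.card T) r := by
  have hr' : Fact r.Prime := ⟨hr⟩
  by_cases hR : Nat.card R = r
  · unfold E
    rw [hR, Nat.div_self hr.pos, Nat.mod_eq_of_lt hr.one_lt]
    exact one_dvd _
  obtain ⟨x, hx⟩ := exists_prime_orderOf_dvd_card' (G := R) r hd
  have hx' : orderOf (x : T) = r := by rw [Subgroup.orderOf_coe, hx]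
  have hR2 : ¬ r ^ 2 ∣ Nat.card R := fun h => h2 (h.trans (Subgroup.card_subgroup_dvd_card R))
  obtain ⟨h3, -⟩ := card_norm_mod hr hR2 hR (card_cent_of_noOrd hr hR2 (hno.sub R) hx)
  obtain ⟨h4, -⟩ := card_norm_mod hr h2 hne (card_cent_of_noOrd hr h2 hno hx')
  have h5 : Nat.card (normalizer ((zpowers x : Subgroup R) : Set R)) ∣
      Nat.card (normalizer ((zpowers (x : T) : Subgroup T) : Set T)) := by
    have hle : (normalizer ((zpowers x : Subgroup R) : Set R)).map R.subtype ≤
        normalizer ((zpowers (x : T) : Subgroup T) : Set T) := by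
      rintro _ ⟨w, hw, rfl⟩
      rw [mem_normalizer_iff]
      have hmem : ∀ v : R, v ∈ zpowers x ↔ (v : T) ∈ zpowers (x : T) := by
        intro v
        rw [mem_zpowers_iff, mem_zpowers_iff]
        constructor
        · rintro ⟨j, hj⟩
          exact ⟨j, congrArg Subtype.val hj⟩
        · rintro ⟨j, hj⟩
          exact ⟨j, Subtype.ext hj⟩
      have hsub : ∀ v ∈ zpowers (x : T), v ∈ R := by
        intro v hv
        obtain ⟨j, rfl⟩ := mem_zpowers_iff.1 hv
        exact zpow_mem x.2 j
      intro v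
      constructor
      · intro hv
        have h6 := ((mem_normalizer_iff.1 hw) ⟨v, hsub v hv⟩).1 ((hmem _).2 hv)
        exact (hmem _).1 h6
      · intro hv
        have hvR : v ∈ R := by
          have h7 := mul_mem (mul_mem (inv_mem w.2) (hsub _ hv)) w.2
          rwa [show ((w : T))⁻¹ * ((R.subtype w) * v * (R.subtype w)⁻¹) * (w : T) = v by
            change (w : T)⁻¹ * ((w : T) * v * (w : T)⁻¹) * (w : T) = v
            group] at h7
        exact (hmem ⟨v, hvR⟩).1 (((mem_normalizer_iff.1 hw) ⟨v, hvR⟩).2 ((hmem _).2 hv))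
    have h6 := Subgroup.card_dvd_of_le hle
    rwa [Subgroup.card_map_of_injective R.subtype_injective] at h6
  rw [h3, h4] at h5
  exact Nat.dvd_of_mul_dvd_mul_left hr.pos h5

/-- the index of `N` for an isolated prime -/
theorem index_dvd_E {T : Type*} [Group T] [Finite T] {r : ℕ} (hno : Isol T r) (h2 : ¬ r ^ 2 ∣ Nat.card T)
    (hne : Nat.card T ≠ r) {R : Subgroup T} {O : Subgroup R} [O.Normal] {N : Subgroup (R ⧸ O)} (h : Top R r O N) :
    ((∀ a b : N, a * b = b * a) → N.index ∣ E (Nat.card T) r) ∧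
      ((¬ ∀ a b : N, a * b = b * a) → E (Nat.card N) r * N.index ∣ E (Nat.card T) r) := by
  have h1 := E_dvd h.prime hno h2 hne R h.dvdR
  rw [E_quot h (hno.sub R)] at h1
  constructor
  · intro hc
    rwa [index_eq h hc]
  · intro hc
    have hN : Nat.card N ≠ r := by
      intro h3
      apply hc
      have hr' : Fact r.Prime := ⟨h.prime⟩
      have hcy : IsCyclic N := isCyclic_of_prime_card h3
      intro a b
      exact (IsCyclic.commutative (α := N)).is_comm.comm a b
    rwa [index_mul_eq h (hno.sub R) hN]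

end Cfsg.Agent.H257.Cov
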