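import Cfsg.Agent.H278.Cov.Defs
import Cfsg.Agent.H257.Cov.Index
import Cfsg.Agent.H257.El.Part

/-!
# S2499, sporadic groups: element orders without common proper overgroup (helper257)

* `OInc T m n` : no proper subgroup of `T` contains elements of order `m` and of order `n`
* `noTwo_of_orders` : three pairwise incompatible orders
* `oinc_of_primes` : two primes `r`, `p` (no element of order `r p`, no possible simple group)
* `oinc_of_chkI` : `r` isolated (`Isol T r`, `isol_of_cent`), `m` arbitrary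
* `oinc_of_chkN` : `r` a prime not adjacent to the primes dividing `m`
* `exists_image` : the general situation: the image of the element of order `m` in `R / O` has order `m`
-/

set_option autoImplicit false

namespace Cfsg.Agent.H257.Cov

open Subgroup
open Cfsg.Agent.OrdDiv
open Cfsg.Agent.H278.Cov
open Cfsg.Agent.H257.El

universe u v

/-- no proper subgroup of `T` contains elements of order `m` and of order `n` -/
def OInc (T : Type u) [Group T] (m n : ℕ) : Prop :=
  ∀ R : Subgroup T, R ≠ ⊤ → ∀ x ∈ R, ∀ y ∈ R, orderOf x = m → orderOf y = n → False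

section

variable {T : Type u} [Group T] {m n : ℕ}

theorem OInc.symm (h : OInc T m n) : OInc T n m := fun R hR x hx y hy h1 h2 => h R hR y hy x hx h2 h1

/-- multiples -/
theorem OInc.mul (h : OInc T m n) {m' n' : ℕ} (hm : m ∣ m') (hn : n ∣ n') (hm0 : m' ≠ 0) (hn0 : n' ≠ 0) :
    OInc T m' n' := by
  intro R hR x hx y hy h1 h2
  obtain ⟨a, rfl⟩ := hm
  obtain ⟨b, rfl⟩ := hn
  have ha : a ≠ 0 := right_ne_zero_of_mul hm0
  have hb : b ≠ 0 := right_ne_zero_of_mul hn0
  have hm1 : 0 < m := Nat.pos_of_ne_zero (left_ne_zero_of_mul hm0)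
  have hn1 : 0 < n := Nat.pos_of_ne_zero (left_ne_zero_of_mul hn0)
  refine h R hR (x ^ a) (R.pow_mem hx a) (y ^ b) (R.pow_mem hy b) ?_ ?_
  · rw [orderOf_pow_of_dvd ha (by rw [h1]; exact dvd_mul_left _ _), h1, Nat.mul_div_cancel _ (Nat.pos_of_ne_zero ha)]
  · rw [orderOf_pow_of_dvd hb (by rw [h2]; exact dvd_mul_left _ _), h2, Nat.mul_div_cancel _ (Nat.pos_of_ne_zero hb)]

theorem OInc.inc (h : OInc T m n) {x y : T} (hx : orderOf x = m) (hy : orderOf y = n) : Inc x y := by
  intro H hH
  by_contra hc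
  rw [not_or] at hc
  obtain ⟨g, hg⟩ := not_av hc.1
  obtain ⟨k, hk⟩ := not_av hc.2
  have ho : ∀ a z : T, orderOf (a * z * a⁻¹) = orderOf z := fun a z =>
    orderOf_injective (MulAut.conj a).toMonoidHom (MulAut.conj a).injective z
  exact h H hH _ hg _ hk ((ho g x).trans hx) ((ho k y).trans hy)

/-- **three pairwise incompatible orders** -/
theorem noTwo_of_orders {a b c : ℕ} (ha : ∃ x : T, orderOf x = a) (hb : ∃ x : T, orderOf x = b)
    (hc : ∃ x : T, orderOf x = c) (hab : OInc T a b) (hbc : OInc T b c) (hac : OInc T a c) : NoTwo T := by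
  obtain ⟨x, hx⟩ := ha
  obtain ⟨y, hy⟩ := hb
  obtain ⟨z, hz⟩ := hc
  exact noTwo_of_three (hab.inc hx hy) (hbc.inc hy hz) (hac.inc hx hz)

theorem OInc.congr {T' : Type v} [Group T'] (h : OInc T m n) (e : T ≃* T') : OInc T' m n := by
  intro R hR x hx y hy h1 h2
  have ho : ∀ z : T', orderOf (e.symm z) = orderOf z := fun z =>
    orderOf_injective e.symm.toMonoidHom e.symm.injective z
  refine h (R.comap e.toMonoidHom) (fun ht => hR ?_) (e.symm x) ?_ (e.symm y) ?_ ((ho x).trans h1) ((ho y).trans h2)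
  · rw [eq_top_iff]
    intro w _
    have h3 : e.symm w ∈ R.comap e.toMonoidHom := by rw [ht]; trivial
    have h4 : e (e.symm w) ∈ R := h3
    rwa [e.apply_symm_apply] at h4
  · change e (e.symm x) ∈ R
    rwa [e.apply_symm_apply]
  · change e (e.symm y) ∈ R
    rwa [e.apply_symm_apply]

theorem isol_congr {T' : Type v} [Group T'] {r : ℕ} (h : Isol T r) (e : T ≃* T') : Isol T' r := by
  intro p hp hrp z hz
  refine h p hp hrp (e.symm z) ?_
  rw [← hz]
  exact orderOf_injective e.symm.toMonoidHom e.symm.injective z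

/-- a self-centralizing subgroup of order `r` -/
theorem isol_of_cent {r : ℕ} (hr : r.Prime)
    (hc : ∀ x : T, orderOf x = r → Nat.card (centralizer ({x} : Set T)) = r) : Isol T r := by
  intro p hp hrp z hz
  have h1 : orderOf (z ^ p) = r := by
    rw [orderOf_pow_of_dvd hp.ne_zero (by rw [hz]; exact dvd_mul_left _ _), hz, Nat.mul_div_cancel _ hp.pos]
  have h2 := hc _ h1
  have h3 : z ∈ centralizer ({z ^ p} : Set T) := by
    rw [mem_centralizer_singleton_iff]
    rw [← pow_succ, ← pow_succ']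
  have h4 := Subgroup.orderOf_dvd_natCard _ h3
  rw [h2, hz] at h4
  have h5 : p ∣ r := (dvd_mul_left _ _).trans h4
  exact hrp ((Nat.prime_dvd_prime_iff_eq hp hr).1 h5).symm

end

section

variable {T : Type u} [Group T] [Finite T]

theorem exists_of_prime_dvd {p : ℕ} (hp : p.Prime) (hd : p ∣ Nat.card T) : ∃ x : T, orderOf x = p := by
  have : Fact p.Prime := ⟨hp⟩
  exact exists_prime_orderOf_dvd_card' p hd

/-- two primes -/
theorem oinc_of_primes (tab : OrderTable.{u}) (known : Known.{u}) {n : ℕ} {l : List (ℕ × ℕ)} {r p : ℕ}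
    (hn : Nat.card T = n) (hr : r.Prime) (hp : p.Prime) (hno : ∀ z : T, orderOf z ≠ r * p)
    (hchk : chkF n l r p [] = true) : OInc T r p := by
  intro R hR x hx y hy h1 h2
  refine false_of_chk tab known hn hr hp hno (by simp) hchk hR ?_ ?_ (by simp)
  · rw [← h1, ← Subgroup.orderOf_mk x hx]
    exact _root_.orderOf_dvd_natCard _
  · rw [← h2, ← Subgroup.orderOf_mk y hy]
    exact _root_.orderOf_dvd_natCard _

/-! ### images -/

/-- the order of the image of an element whose order is prime to the order of the kernel -/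
theorem orderOf_mk_quot {R : Type*} [Group R] [Finite R] (O : Subgroup R) [O.Normal] {y : R}
    (hs : ∀ s : ℕ, s.Prime → s ∣ orderOf y → ¬ s ∣ Nat.card O) :
    orderOf (QuotientGroup.mk' O y) = orderOf y := by
  have h1 : orderOf (QuotientGroup.mk' O y) ∣ orderOf y := orderOf_map_dvd _ _
  obtain ⟨k, hk⟩ := h1
  set j := orderOf (QuotientGroup.mk' O y) with hj
  have h2 : y ^ j ∈ O := by
    rw [← QuotientGroup.eq_one_iff (N := O)]
    change QuotientGroup.mk' O (y ^ j) = 1
    rw [map_pow, hj, pow_orderOf_eq_one]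
  have hj0 : j ≠ 0 := by
    rintro h0
    rw [h0, zero_mul] at hk
    exact (orderOf_pos y).ne' hk
  have h3 : orderOf (y ^ j) = k := by
    rw [orderOf_pow_of_dvd hj0 (Dvd.intro _ hk.symm), hk, Nat.mul_div_cancel_left _ (Nat.pos_of_ne_zero hj0)]
  have h4 : k ∣ Nat.card O := by
    rw [← h3, ← Subgroup.orderOf_mk _ h2]
    exact _root_.orderOf_dvd_natCard _
  have h5 : k = 1 := by
    by_contra hne
    obtain ⟨s, hs1, hs2⟩ := Nat.exists_prime_and_dvd hne
    exact hs s hs1 (by rw [hk]; exact hs2.mul_left _) (hs2.trans h4)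
  rw [h5, mul_one] at hk
  exact hk.symm

/-- an element of order prime to the index of a normal subgroup -/
theorem mem_of_coprime_index {Q : Type*} [Group Q] [Finite Q] (N : Subgroup Q) [N.Normal] {z : Q}
    (h : (orderOf z).Coprime N.index) : z ∈ N := by
  rw [← QuotientGroup.eq_one_iff (N := N)]
  change QuotientGroup.mk' N z = 1
  rw [← orderOf_eq_one_iff]
  apply Nat.eq_one_of_dvd_coprimes h (orderOf_map_dvd _ _)
  rw [Subgroup.index]
  exact _root_.orderOf_dvd_natCard _

/-- the numeric condition on the primes of `m` -/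
def okM (n : ℕ) (l : List (ℕ × ℕ)) (r m : ℕ) : Bool :=
  OrdDiv.valid l n && (n % r ^ 2 != 0) && (m % r != 0) && (l.all fun x => (m % x.1 != 0) || okPow l r x.1)

/-- **The general situation**: `R` a proper subgroup with elements of order `r` and `m`. -/
theorem exists_image (tab : OrderTable.{u}) (known : Known.{u}) {n : ℕ} {l : List (ℕ × ℕ)} {r m : ℕ}
    (hn : Nat.card T = n) (hr : r.Prime) (hno : ∀ s : ℕ, s.Prime → s ∣ m → ∀ z : T, orderOf z ≠ r * s)
    (hchk : okM n l r m = true) {R : Subgroup T} (hR : R ≠ ⊤) (hrR : r ∣ Nat.card R) {y : T} (hy : y ∈ R)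
    (hym : orderOf y = m) :
    SitP T n l r R ∧ ∃ (O : Subgroup R) (_ : O.Normal) (N : Subgroup (R ⧸ O)), Top R r O N ∧
      (∀ s : ℕ, s.Prime → s ∣ m → ¬ s ∣ Nat.card O) ∧ ∃ z : R ⧸ O, orderOf z = m := by
  unfold okM at hchk
  simp only [Bool.and_eq_true] at hchk
  obtain ⟨⟨⟨h1, h2⟩, h3⟩, h4⟩ := hchk
  have S : SitP T n l r R := sitP_of tab known hn h1 hr h2 hR hrR
  obtain ⟨O, hO, N, h⟩ := S.exists_top
  have hmR : m ∣ Nat.card R := by
    rw [← hym, ← Subgroup.orderOf_mk y hy]
    exact _root_.orderOf_dvd_natCard _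
  have hcore : ∀ s : ℕ, s.Prime → s ∣ m → ¬ s ∣ Nat.card O := by
    intro s hs hsm
    have hrs : r ≠ s := by
      rintro rfl
      rw [Nat.mod_eq_zero_of_dvd hsm] at h3
      exact absurd h3 (by decide)
    have hsn : s ^ 1 ∣ n := by
      rw [pow_one]
      exact (hsm.trans hmR).trans S.dvd_n
    obtain ⟨k, hk, -⟩ := exists_pair S.valid hs le_rfl hsn
    rw [List.all_eq_true] at h4
    have h5 := h4 _ hk
    simp only [Bool.or_eq_true, bne_iff_ne, ne_eq] at h5
    have h6 : okPow l r s = true := h5.resolve_left (fun h7 => h7 (Nat.mod_eq_zero_of_dvd hsm))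
    exact h.not_dvd_core hs hrs (SitP.noR (hno s hs hsm)) (fun b hb hd => okPow_spec S.valid h6 hs hb
      (hd.trans S.dvd_n))
  refine ⟨S, O, hO, N, h, hcore, QuotientGroup.mk' O ⟨y, hy⟩, ?_⟩
  have h7 : orderOf (⟨y, hy⟩ : R) = m := by rw [Subgroup.orderOf_mk, hym]
  rw [orderOf_mk_quot O (by rw [h7]; exact hcore), h7]

/-! ### isolated primes -/

/-- the check for `oinc_of_chkI` -/
def chkI (n : ℕ) (l : List (ℕ × ℕ)) (r m : ℕ) (ex : List Grp) : Bool :=
  okM n l r m && (n != r) && (E n r % m != 0) &&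
    (surv n l r []).all fun g => (E n r % E (ordN g) r != 0) || ((ordN g * (E n r / E (ordN g) r)) % m != 0) ||
      (ex.contains g && Nat.gcd m (E n r / E (ordN g) r) == 1)

/-- **an isolated prime `r` and an order `m`**; for the exceptional groups `ex` one has to know that they have no
element of order `m` -/
theorem oinc_of_chkI (tab : OrderTable.{u}) (known : Known.{u}) {n : ℕ} {l : List (ℕ × ℕ)} {r m : ℕ} (ex : List Grp)
    (hn : Nat.card T = n) (hr : r.Prime) (hiso : Isol T r) (hchk : chkI n l r m ex = true)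
    (hex : ∀ g ∈ ex, ∀ (X : Type u) [Group X] [Finite X], Real g X → ∀ x : X, orderOf x ≠ m) : OInc T r m := by
  intro R hR x hx y hy hxr hym
  unfold chkI at hchk
  simp only [Bool.and_eq_true] at hchk
  obtain ⟨⟨⟨h1, h2⟩, h3⟩, h4⟩ := hchk
  have hrR : r ∣ Nat.card R := by
    rw [← hxr, ← Subgroup.orderOf_mk x hx]
    exact _root_.orderOf_dvd_natCard _
  have hrm : ∀ s : ℕ, s.Prime → s ∣ m → r ≠ s := by
    rintro s - hsm rfl
    unfold okM at h1
    simp only [Bool.and_eq_true] at h1
    have h5 := h1.1.2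
    rw [Nat.mod_eq_zero_of_dvd hsm] at h5
    exact absurd h5 (by decide)
  obtain ⟨S, O, hO, N, h, -, z, hz⟩ := exists_image tab known hn hr (fun s hs hsm => hiso s hs (hrm s hs hsm)) h1 hR hrR
    hy hym
  have hsq : ¬ r ^ 2 ∣ Nat.card T := by rw [hn]; exact S.sq
  have hne : Nat.card T ≠ r := by rw [hn]; simpa using h2
  obtain ⟨i1, i2⟩ := index_dvd_E hiso hsq hne h
  rw [hn] at i1 i2
  have hN := h.normal
  have hmQ : m ∣ Nat.card N * N.index := by
    rw [Subgroup.card_mul_index, ← hz]
    exact _root_.orderOf_dvd_natCard _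
  have hE0 : E n r ≠ 0 := by
    rintro h0
    rw [h0, Nat.zero_mod] at h3
    exact absurd h3 (by decide)
  by_cases hc : ∀ a b : N, a * b = b * a
  · have h5 := i1 hc
    rw [h.card_of_comm hc] at hmQ
    have hcop : m.Coprime r := by
      rw [Nat.coprime_comm, Nat.Prime.coprime_iff_not_dvd hr]
      intro h6
      exact hrm r hr h6 rfl
    have h6 := (hcop.dvd_of_dvd_mul_left hmQ).trans h5
    rw [Nat.mod_eq_zero_of_dvd h6] at h3
    exact absurd h3 (by decide)
  · have h5 := i2 hc
    obtain ⟨g, hg, hreal, hgc⟩ := S.exists_surv h hc [] (by simp)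
    rw [List.all_eq_true] at h4
    have h6 := h4 g hg
    rw [← hgc] at h6
    have he : E (Nat.card N) r ∣ E n r := (dvd_mul_right _ _).trans h5
    have he0 : 0 < E (Nat.card N) r := by
      rcases Nat.eq_zero_or_pos (E (Nat.card N) r) with h0 | h0
      · rw [h0, Nat.zero_dvd] at he
        exact absurd he hE0
      · exact h0
    have hi : N.index ∣ E n r / E (Nat.card N) r := by
      obtain ⟨c, hc'⟩ := h5
      rw [hc', mul_assoc, Nat.mul_div_cancel_left _ he0]
      exact dvd_mul_right _ _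
    simp only [Bool.or_eq_true, Bool.and_eq_true, bne_iff_ne, ne_eq, beq_iff_eq] at h6
    rcases h6 with (h6 | h6) | ⟨h6, h7⟩
    · exact h6 (Nat.mod_eq_zero_of_dvd he)
    · apply h6
      exact Nat.mod_eq_zero_of_dvd (hmQ.trans (Nat.mul_dvd_mul_left _ hi))
    · have hzN : z ∈ N := mem_of_coprime_index N (by
        rw [hz]
        exact Nat.Coprime.coprime_dvd_right hi h7)
      refine hex g (by simpa using h6) N hreal ⟨z, hzN⟩ ?_
      rw [Subgroup.orderOf_mk, hz]

/-! ### a prime not adjacent to the primes of `m` -/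

/-- the check for `oinc_of_chkN` -/
def chkN (n : ℕ) (l : List (ℕ × ℕ)) (r m : ℕ) (ex : List Grp) : Bool :=
  okM n l r m && (m != 1) && Nat.gcd m (r - 1) == 1 &&
    (surv n l r []).all fun g => (ordN g % m != 0) || ex.contains g

/-- **a prime `r` not adjacent to the primes dividing `m`**, `m` prime to `r - 1`; for the exceptional groups `ex` one
has to know that they have no element of order `m` -/
theorem oinc_of_chkN (tab : OrderTable.{u}) (known : Known.{u}) {n : ℕ} {l : List (ℕ × ℕ)} {r m : ℕ} (ex : List Grp)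
    (hn : Nat.card T = n) (hr : r.Prime) (hno : ∀ s : ℕ, s.Prime → s ∣ m → ∀ z : T, orderOf z ≠ r * s)
    (hchk : chkN n l r m ex = true)
    (hex : ∀ g ∈ ex, ∀ (X : Type u) [Group X] [Finite X], Real g X → ∀ x : X, orderOf x ≠ m) : OInc T r m := by
  intro R hR x hx y hy hxr hym
  unfold chkN at hchk
  simp only [Bool.and_eq_true] at hchk
  obtain ⟨⟨⟨h1, h2⟩, h3⟩, h4⟩ := hchk
  have hrR : r ∣ Nat.card R := by
    rw [← hxr, ← Subgroup.orderOf_mk x hx]
    exact _root_.orderOf_dvd_natCard _
  have hrm : ∀ s : ℕ, s.Prime → s ∣ m → r ≠ s := by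
    rintro s - hsm rfl
    unfold okM at h1
    simp only [Bool.and_eq_true] at h1
    have h5 := h1.1.2
    rw [Nat.mod_eq_zero_of_dvd hsm] at h5
    exact absurd h5 (by decide)
  obtain ⟨S, O, hO, N, h, -, z, hz⟩ := exists_image tab known hn hr hno h1 hR hrR hy hym
  have hN := h.normal
  have h3' : m.Coprime (r - 1) := by simpa using h3
  have hcop : m.Coprime N.index := by
    rw [Nat.coprime_iff_gcd_eq_one]
    by_contra hne
    obtain ⟨s, hs, hsd⟩ := Nat.exists_prime_and_dvd hne
    have hsm := hsd.trans (Nat.gcd_dvd_left _ _)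
    refine h.not_dvd_index hs (hrm s hs hsm) (SitP.noR (hno s hs hsm)) (fun h5 => ?_) (hsd.trans (Nat.gcd_dvd_right _ _))
    exact hs.one_lt.ne' (Nat.eq_one_of_dvd_coprimes h3' hsm h5)
  have hzN : z ∈ N := mem_of_coprime_index N (by rw [hz]; exact hcop)
  have hzo : orderOf (⟨z, hzN⟩ : N) = m := by rw [Subgroup.orderOf_mk, hz]
  have hmN : m ∣ Nat.card N := by
    rw [← hzo]
    exact _root_.orderOf_dvd_natCard _
  have hc : ¬ ∀ a b : N, a * b = b * a := by
    intro hc
    rw [h.card_of_comm hc] at hmN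
    rcases (Nat.dvd_prime hr).1 hmN with h5 | h5
    · rw [h5] at h2
      exact absurd h2 (by decide)
    · exact hrm r hr (by rw [h5]) rfl
  obtain ⟨g, hg, hreal, hgc⟩ := S.exists_surv h hc [] (by simp)
  rw [List.all_eq_true] at h4
  have h6 := h4 g hg
  rw [← hgc, Bool.or_eq_true] at h6
  rcases h6 with h6 | h6
  · rw [Nat.mod_eq_zero_of_dvd hmN] at h6
    exact absurd h6 (by decide)
  · exact hex g (by simpa using h6) N hreal ⟨z, hzN⟩ hzo

end

end Cfsg.Agent.H257.Cov
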