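import Cfsg.Agent.H149.Sp.Leech
import Cfsg.Agent.LThreeCo1.Ranks

/-!
# Elements of `Co0` and `Co1` of orders 33 and 105 (helper257)

* `no_33` : elements of order 33 of `Co0` have no nonzero fixed vector
* `no_105` : `Co0` and `Co1` have no elements of order 105
-/

set_option autoImplicit false

namespace Cfsg.Agent.H257.Cov.LinCo

open Polynomial Module Cfsg
open Cfsg.Agent.SigZeroCo2.Rank (fix mem_fix)
open Cfsg.Agent.H149.Sp
open Cfsg.Agent.SigZeroCo2.Lin (rep toV rep_toV toV_zero toV_injective)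
open Cfsg.Agent.LThreeBX.NoSeven
open Cfsg.Agent.CoOneType.ClosingFacts
open Cfsg.Spor (Co1)

section

variable {V : Type*} [AddCommGroup V] [Module ℚ V]

theorem aeval_inv (f : End ℚ V) (U : Submodule ℚ V) (hU : ∀ v ∈ U, f v ∈ U) (P : ℚ[X]) {u : V} (hu : u ∈ U) :
    aeval f P u ∈ U := by
  rw [← aeval_restrict f U hU P ⟨u, hu⟩]
  exact Subtype.mem _

/-- **Two commuting automorphisms of prime orders `p ≠ q`**: the fixed space of the second one -/
theorem finrank_or [FiniteDimensional ℚ V] {p q : ℕ} (hp : p.Prime) (hq : q.Prime) (hpq : p ≠ q)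
    {x y : End ℚ V} (hx : x ^ p = 1) (hy : y ^ q = 1) (hc : x * y = y * x) :
    finrank ℚ V ≤ finrank ℚ (fix x) + finrank ℚ (fix y) ∨ (q - 1) * (p - 1) + finrank ℚ (fix y) ≤ finrank ℚ V := by
  have hc' : Commute x y := hc
  have hwq : (x * y) ^ q = x ^ q := by rw [hc'.mul_pow, hy, mul_one]
  have hwp : (x * y) ^ p = y ^ p := by rw [hc'.mul_pow, hx, one_mul]
  have hfy : fix (y ^ p) = fix y := fix_pow_of_coprime hy ((Nat.coprime_primes hp hq).2 hpq)
  have hfx : fix (x ^ q) = fix x := fix_pow_of_coprime hx ((Nat.coprime_primes hq hp).2 (Ne.symm hpq))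
  by_cases key : ∀ v, (x ^ q) ((y ^ p) v - v) = (y ^ p) v - v
  · left
    have h1 : LinearMap.range (y ^ p - LinearMap.id) ≤ fix x := by
      rintro _ ⟨v, rfl⟩
      rw [← hfx, mem_fix]
      simpa using key v
    have h2 := finrank_range_add (y ^ p)
    rw [hfy] at h2
    have h3 := Submodule.finrank_mono h1
    omega
  · right
    push Not at key
    obtain ⟨v, hne⟩ := key
    set u := (x ^ q) ((y ^ p) v - v) - ((y ^ p) v - v) with hu
    have hu0 : u ≠ 0 := sub_ne_zero.2 hne
    have hue : u = aeval (x * y) ((X ^ q - 1) * (X ^ p - 1) : ℚ[X]) v := by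
      simp only [map_mul, map_sub, aeval_X, map_one, map_pow, hwq, hwp, Module.End.mul_apply,
        LinearMap.sub_apply, Module.End.one_apply]
      rw [hu, map_sub]
      abel
    have hcy : Commute (x * y) (y ^ p - LinearMap.id) := by
      have h1 : Commute (x * y) y := (hc'.mul_left (Commute.refl y))
      exact (h1.pow_right p).sub_right (Commute.one_right _)
    have h1 := totient_le_of_mem (x * y) (LinearMap.range (y ^ p - LinearMap.id)) (by
      rintro _ ⟨w, rfl⟩
      refine ⟨(x * y) w, ?_⟩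
      have := congrArg (fun g : End ℚ V => g w) hcy.eq
      simp only [Module.End.mul_apply] at this ⊢
      exact this.symm) (Nat.mul_pos hq.pos hp.pos) (u := u) ?_ hu0 ?_
    · rw [Nat.totient_mul ((Nat.coprime_primes hq hp).2 (Ne.symm hpq)), Nat.totient_prime hq, Nat.totient_prime hp] at h1
      have := finrank_range_add (y ^ p)
      rw [hfy] at this
      omega
    · refine ⟨(x ^ q) v - v, ?_⟩
      have h2 : (y ^ p) ((x ^ q) v) = (x ^ q) ((y ^ p) v) := by
        have := (hc'.pow_pow q p).eq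
        have := congrArg (fun g : End ℚ V => g v) this
        simp only [Module.End.mul_apply] at this
        exact this.symm
      rw [hu]
      simp only [LinearMap.sub_apply, LinearMap.id_apply, map_sub, h2]
    · rw [hue, ← Module.End.mul_apply, ← map_mul, CpAutBig.TwoPrimes.cyclotomic_mul hp hq hpq, map_mul]
      have h3 : aeval (x * y) (X ^ (q * p) - 1 : ℚ[X]) = 0 := by
        rw [map_sub, map_pow, aeval_X, map_one, pow_mul, hwq, ← pow_mul, mul_comm q p, pow_mul, hx, one_pow, sub_self]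
      rw [h3, zero_mul, LinearMap.zero_apply]

end

/-! ### elements of order 105 -/

theorem dvd_35 : (X ^ 35 - 1 : ℚ[X]) ∣ cyclotomic 35 ℚ * ((X ^ 21 - 1) * (X ^ 15 - 1)) := by
  rw [← prod_cyclotomic_eq_X_pow_sub_one (n := 35) (by norm_num) ℚ,
    ← prod_cyclotomic_eq_X_pow_sub_one (n := 21) (by norm_num) ℚ,
    ← prod_cyclotomic_eq_X_pow_sub_one (n := 15) (by norm_num) ℚ,
    show Nat.divisors 35 = {1, 5, 7, 35} by decide, show Nat.divisors 21 = {1, 3, 7, 21} by decide,
    show Nat.divisors 15 = {1, 3, 5, 15} by decide]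
  simp +decide only [Finset.prod_insert, Finset.prod_singleton, Finset.mem_insert, Finset.mem_singleton,
    not_false_eq_true]
  exact ⟨cyclotomic 3 ℚ * cyclotomic 21 ℚ * (cyclotomic 1 ℚ * (cyclotomic 3 ℚ * cyclotomic 15 ℚ)), by ring⟩

theorem dvd_105 : (X ^ 105 - 1 : ℚ[X]) ∣ cyclotomic 105 ℚ * ((X ^ 35 - 1) * ((X ^ 21 - 1) * (X ^ 15 - 1))) := by
  rw [← prod_cyclotomic_eq_X_pow_sub_one (n := 105) (by norm_num) ℚ,
    ← prod_cyclotomic_eq_X_pow_sub_one (n := 35) (by norm_num) ℚ,
    ← prod_cyclotomic_eq_X_pow_sub_one (n := 21) (by norm_num) ℚ,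
    ← prod_cyclotomic_eq_X_pow_sub_one (n := 15) (by norm_num) ℚ,
    show Nat.divisors 105 = {1, 3, 5, 7, 15, 21, 35, 105} by decide,
    show Nat.divisors 35 = {1, 5, 7, 35} by decide, show Nat.divisors 21 = {1, 3, 7, 21} by decide,
    show Nat.divisors 15 = {1, 3, 5, 15} by decide]
  simp +decide only [Finset.prod_insert, Finset.prod_singleton, Finset.mem_insert, Finset.mem_singleton,
    not_false_eq_true]
  exact ⟨(cyclotomic 1 ℚ * (cyclotomic 5 ℚ * cyclotomic 7 ℚ)) * (cyclotomic 1 ℚ * cyclotomic 3 ℚ), by ring⟩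

theorem no_105_lin {V : Type*} [AddCommGroup V] [Module ℚ V] [FiniteDimensional ℚ V] (hV : finrank ℚ V = 24)
    {x y z : End ℚ V} (hx : x ^ 5 = 1) (hy : y ^ 7 = 1) (hz : z ^ 3 = 1) (hxy : Commute x y) (hxz : Commute x z)
    (hyz : Commute y z) (hfx : finrank ℚ (fix x) ≤ 8) (hfy : finrank ℚ (fix y) ≤ 6) : z = 1 := by
  have px : ∀ k j : ℕ, x ^ (5 * k + j) = x ^ j := fun k j => by rw [pow_add, pow_mul, hx, one_pow, one_mul]
  have py : ∀ k j : ℕ, y ^ (7 * k + j) = y ^ j := fun k j => by rw [pow_add, pow_mul, hy, one_pow, one_mul]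
  have pz : ∀ k j : ℕ, z ^ (3 * k + j) = z ^ j := fun k j => by rw [pow_add, pow_mul, hz, one_pow, one_mul]
  set f := x * y with hf
  have f21 : f ^ 21 = x := by
    rw [hf, hxy.mul_pow, show (21 : ℕ) = 5 * 4 + 1 by norm_num, px, show (5 * 4 + 1 : ℕ) = 7 * 3 + 0 by norm_num, py,
      pow_one, pow_zero, mul_one]
  have f15 : f ^ 15 = y := by
    rw [hf, hxy.mul_pow, show (15 : ℕ) = 5 * 3 + 0 by norm_num, px, show (5 * 3 + 0 : ℕ) = 7 * 2 + 1 by norm_num, py,
      pow_one, pow_zero, one_mul]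
  have f35 : f ^ 35 = 1 := by
    rw [hf, hxy.mul_pow, show (35 : ℕ) = 5 * 7 + 0 by norm_num, px, show (5 * 7 + 0 : ℕ) = 7 * 5 + 0 by norm_num, py,
      pow_zero, pow_zero, one_mul]
  have hg : ∀ v, aeval f ((X ^ 21 - 1) * (X ^ 15 - 1) : ℚ[X]) v = (x - 1) ((y - 1) v) := by
    intro v
    simp only [map_mul, map_sub, aeval_X, map_one, map_pow, f21, f15, Module.End.mul_apply]
  -- surjectivity
  have hsurj : LinearMap.range ((x - 1) * (y - 1) : End ℚ V) = ⊤ := by
    obtain ⟨v, hv⟩ : ∃ v, (x - 1) ((y - 1) v) ≠ 0 := by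
      by_contra hcon
      push Not at hcon
      have h1 : LinearMap.range (y - LinearMap.id) ≤ fix x := by
        rintro _ ⟨v, rfl⟩
        rw [mem_fix]
        exact sub_eq_zero.1 (hcon v)
      have h2 := finrank_range_add y
      have h3 := Submodule.finrank_mono h1
      omega
    have h1 := totient_le_of_mem f (LinearMap.range ((x - 1) * (y - 1) : End ℚ V)) (by
      have hcf : Commute f ((x - 1) * (y - 1)) := by
        have c1 : Commute f x := (Commute.refl x).mul_left hxy.symm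
        have c2 : Commute f y := hxy.mul_left (Commute.refl y)
        exact (c1.sub_right (Commute.one_right _)).mul_right (c2.sub_right (Commute.one_right _))
      rintro _ ⟨w, rfl⟩
      refine ⟨f w, ?_⟩
      have := congrArg (fun g : End ℚ V => g w) hcf.eq
      simp only [Module.End.mul_apply] at this ⊢
      exact this.symm) (n := 35) (by norm_num) (u := (x - 1) ((y - 1) v)) ⟨v, rfl⟩ hv (by
      rw [← hg, ← Module.End.mul_apply, ← map_mul]
      obtain ⟨Q, hQ⟩ := dvd_35
      rw [hQ, map_mul, map_sub, map_pow, aeval_X, f35, map_one, sub_self, zero_mul, LinearMap.zero_apply])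
    rw [show Nat.totient 35 = 24 by decide +kernel] at h1
    exact Submodule.eq_top_of_finrank_eq (le_antisymm (Submodule.finrank_le _) (by omega))
  by_contra hz1
  obtain ⟨v0, hv0⟩ : ∃ v, z v ≠ v := by
    by_contra hcon
    push Not at hcon
    exact hz1 (LinearMap.ext hcon)
  obtain ⟨v1, hv1⟩ : v0 ∈ LinearMap.range ((x - 1) * (y - 1) : End ℚ V) := by rw [hsurj]; trivial
  have hv1' : (x - 1) ((y - 1) v1) = v0 := hv1
  have hfz : Commute f z := hxz.mul_left hyz
  set F := f * z with hF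
  have F21 : F ^ 21 = x := by
    rw [hF, hfz.mul_pow, f21, show (21 : ℕ) = 3 * 7 + 0 by norm_num, pz, pow_zero, mul_one]
  have F15 : F ^ 15 = y := by
    rw [hF, hfz.mul_pow, f15, show (15 : ℕ) = 3 * 5 + 0 by norm_num, pz, pow_zero, mul_one]
  have F35 : F ^ 35 = z ^ 2 := by
    rw [hF, hfz.mul_pow, f35, show (35 : ℕ) = 3 * 11 + 2 by norm_num, pz, one_mul]
  have F105 : F ^ 105 = 1 := by
    rw [show (105 : ℕ) = 35 * 3 by norm_num, pow_mul, F35, ← pow_mul, show 2 * 3 = 3 * 2 by norm_num, pow_mul, hz,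
      one_pow]
  have hu : (z ^ 2 - 1 : End ℚ V) v0 ≠ 0 := by
    intro h
    have h2 : (z ^ 2) v0 = v0 := sub_eq_zero.1 h
    apply hv0
    have h3 : (z ^ 3) v0 = z v0 := by
      rw [pow_succ' z 2, Module.End.mul_apply, h2]
    rw [hz, Module.End.one_apply] at h3
    exact h3.symm
  have h1 := CpAutBig.TwoPrimes.totient_le F (n := 105) (by norm_num) (u := (z ^ 2 - 1 : End ℚ V) v0) hu (by
    have h2 : (z ^ 2 - 1 : End ℚ V) v0 = aeval F ((X ^ 35 - 1) * ((X ^ 21 - 1) * (X ^ 15 - 1)) : ℚ[X]) v1 := by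
      simp only [map_mul, map_sub, aeval_X, map_one, map_pow, F35, F21, F15, Module.End.mul_apply]
      rw [hv1']
    rw [h2, ← Module.End.mul_apply, ← map_mul]
    obtain ⟨Q, hQ⟩ := dvd_105
    rw [hQ, map_mul, map_sub, map_pow, aeval_X, F105, map_one, sub_self, zero_mul, LinearMap.zero_apply])
  rw [show Nat.totient 105 = 48 by decide +kernel, hV] at h1
  omega

/-- the fixed space of an element of order three -/
theorem fd_three {a : Co0} (ha : orderOf a = 3) : fd a = 0 ∨ fd a = 6 ∨ fd a = 8 ∨ fd a = 12 := by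
  have h1 := fr_mk_eq (a := a) (n := 3) (by decide) (by rw [← ha, pow_orderOf_eq_one])
  have h2 := LThreeCo1.Ranks.ranks _ (orderOf_mk (by norm_num) (by norm_num) ha)
  rw [h1] at h2
  have inj : ∀ b : ℕ, 2 ^ fd a = 2 ^ b → fd a = b := fun b hb => Nat.pow_right_injective le_rfl hb
  rcases h2 with h2 | h2 | h2 | h2
  · exact Or.inl (inj 0 (by rw [h2, pow_zero]))
  · exact Or.inr (Or.inl (inj 6 h2))
  · exact Or.inr (Or.inr (Or.inl (inj 8 h2)))
  · exact Or.inr (Or.inr (Or.inr (inj 12 h2)))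

/-- commuting elements of orders 11 and 3 of `Co0` have no common fixed vector -/
theorem no_33 {a b : Co0} {v : leechLattice} (hv : v ≠ 0) (hbv : b • v = v)
    (ha : orderOf a = 11) (hb : orderOf b = 3) : a * b ≠ b * a := by
  intro hc
  have h1 := fd_le (Or.inr (Or.inr (Or.inl rfl))) ha
  have h2 := fd_three hb
  have h3 := finrank_or (p := 11) (q := 3) (by norm_num) (by norm_num) (by norm_num) (x := rep a) (y := rep b)
    (by rw [← map_pow, ← ha, pow_orderOf_eq_one, map_one]) (by rw [← map_pow, ← hb, pow_orderOf_eq_one, map_one])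
    (by rw [← map_mul, hc, map_mul])
  rw [finrank_Sp] at h3
  change 24 ≤ fd a + fd b ∨ (3 - 1) * (11 - 1) + fd b ≤ 24 at h3
  have h4 : 0 < fd b := by
    have hm : toV v ∈ fix (rep b) := by
      rw [mem_fix, rep_toV, hbv]
    have hne : toV v ≠ 0 := by
      intro h
      rw [← toV_zero] at h
      exact hv (toV_injective h)
    have : Nontrivial (fix (rep b)) := ⟨⟨⟨_, hm⟩, 0, fun h => hne (congrArg Subtype.val h)⟩⟩
    exact Module.finrank_pos
  simp [B] at h1
  omega

/-- `Co0` has no three commuting elements of orders 5, 7, 3 -/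
theorem no_105_co0 {a b c : Co0} (ha : orderOf a = 5) (hb : orderOf b = 7) (hc : orderOf c = 3) (hab : a * b = b * a)
    (hac : a * c = c * a) (hbc : b * c = c * b) : False := by
  have h1 := fd_le (Or.inl rfl) ha
  have h2 := fd_le (Or.inr (Or.inl rfl)) hb
  simp [B] at h1 h2
  have h3 := no_105_lin finrank_Sp (x := rep a) (y := rep b) (z := rep c)
    (by rw [← map_pow, ← ha, pow_orderOf_eq_one, map_one]) (by rw [← map_pow, ← hb, pow_orderOf_eq_one, map_one])
    (by rw [← map_pow, ← hc, pow_orderOf_eq_one, map_one])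
    (by rw [Commute, SemiconjBy, ← map_mul, hab, map_mul]) (by rw [Commute, SemiconjBy, ← map_mul, hac, map_mul])
    (by rw [Commute, SemiconjBy, ← map_mul, hbc, map_mul]) h1 h2
  have h4 : c = 1 := SigZeroCo2.Lin.rep_injective (by rw [h3, map_one])
  rw [h4, orderOf_one] at hc
  omega

/-- the lift of odd order -/
theorem exists_lift_odd {s : Co1} {p : ℕ} (hp : p.Prime) (hop : Odd p) (hs : orderOf s = p) :
    ∃ a : Co0, QuotientGroup.mk a = s ∧ orderOf a = p := by
  obtain ⟨a, rfl, ha⟩ := exists_odd hop (show s ^ p = 1 by rw [← hs, pow_orderOf_eq_one])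
  refine ⟨a, rfl, ?_⟩
  have := Fact.mk hp
  refine orderOf_eq_prime ha ?_
  rintro rfl
  have : (QuotientGroup.mk 1 : Co1) = 1 := rfl
  change orderOf (QuotientGroup.mk 1 : Co1) = p at hs
  rw [this, orderOf_one] at hs
  exact hp.one_lt.ne hs

/-- **`Co1` has no elements of order 105** -/
theorem no_105 (s : Co1) : orderOf s ≠ 105 := by
  intro hs
  have o5 : orderOf (s ^ 21) = 5 := by
    rw [orderOf_pow_of_dvd (by norm_num) (by rw [hs]; norm_num), hs]
  have o7 : orderOf (s ^ 15) = 7 := by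
    rw [orderOf_pow_of_dvd (by norm_num) (by rw [hs]; norm_num), hs]
  have o3 : orderOf (s ^ 35) = 3 := by
    rw [orderOf_pow_of_dvd (by norm_num) (by rw [hs]; norm_num), hs]
  obtain ⟨a, ha, hao⟩ := exists_lift_odd (by norm_num) (by decide) o5
  obtain ⟨b, hb, hbo⟩ := exists_lift_odd (by norm_num) (by decide) o7
  obtain ⟨c, hc, hco⟩ := exists_lift_odd (by norm_num) (by decide) o3
  have hcomm : ∀ i j : ℕ, s ^ i * s ^ j = s ^ j * s ^ i := fun i j => by rw [← pow_add, ← pow_add, add_comm]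
  have hap : a ^ 5 = 1 := by rw [← hao, pow_orderOf_eq_one]
  have hbp : b ^ 7 = 1 := by rw [← hbo, pow_orderOf_eq_one]
  have key : ∀ {u w : Co0} {i j n : ℕ}, Odd n → u ^ n = 1 → (QuotientGroup.mk u : Co1) = s ^ i →
      (QuotientGroup.mk w : Co1) = s ^ j → u * w = w * u := by
    intro u w i j n hn hu h1 h2
    refine comm_of_mk hn hu ?_
    change (QuotientGroup.mk u : Co1) * QuotientGroup.mk w = QuotientGroup.mk w * QuotientGroup.mk u
    rw [h1, h2]
    exact hcomm _ _
  exact no_105_co0 hao hbo hco (key (by decide) hap ha hb) (key (by decide) hap ha hc) (key (by decide) hbp hb hc)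

end Cfsg.Agent.H257.Cov.LinCo
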